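import Mathlib
import Cfsg.Agent.Lib.AutPSL.Basic
import Cfsg.Agent.Lib.Schur.LThreeFourBound

/-!
# The two maximal elementary abelian subgroups of the unitriangular subgroup of `PSL(3, 4)`
-/

set_option autoImplicit false
set_option linter.style.haveILetI false

open Matrix
open scoped MatrixGroups Pointwise
open CfsgLib.AutPSL (mkP)
open CfsgLib.Schur.LThreeFour (rt)
open CfsgLib.Schur.SLFam (tv coe_tv)

namespace CfsgLib.LFourElemCover

universe u

variable {F : Type u} [Field F]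

/-- An upper unitriangular matrix. -/
def um (a b c : F) : SL(3, F) :=
  ⟨!![1, a, c; 0, 1, b; 0, 0, 1], by simp [Matrix.det_fin_three]⟩

theorem um_mul (a b c a' b' c' : F) :
    um a b c * um a' b' c' = um (a + a') (b + b') (c + c' + a * b') := by
  apply Subtype.ext
  show _ * _ = _
  ext i j
  fin_cases i <;> fin_cases j <;>
    simp [um, Matrix.mul_apply, Fin.sum_univ_three, Matrix.vecMul, dotProduct] <;> ring

theorem um_zero : um (0 : F) 0 0 = 1 := by
  apply Subtype.ext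
  ext i j
  fin_cases i <;> fin_cases j <;> simp [um]

theorem um_inv (a b c : F) : (um a b c)⁻¹ = um (-a) (-b) (a * b - c) := by
  refine inv_eq_of_mul_eq_one_right ?_
  rw [um_mul, ← um_zero]
  congr 1 <;> ring

/-- Its image in the projective group. -/
def pm (a b c : F) : PSL(3, F) := mkP (um a b c)

theorem pm_mul (a b c a' b' c' : F) :
    pm a b c * pm a' b' c' = pm (a + a') (b + b') (c + c' + a * b') := by
  rw [pm, pm, ← map_mul, um_mul]; rfl

theorem pm_zero : pm (0 : F) 0 0 = 1 := by rw [pm, um_zero, map_one]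

theorem pm_inv (a b c : F) : (pm a b c)⁻¹ = pm (-a) (-b) (a * b - c) := by
  rw [pm, ← map_inv, um_inv]; rfl

/-- Equality in the projective group. -/
theorem exists_scalar {g h : SL(3, F)} (e : mkP g = mkP h) :
    ∃ r : F, r ^ 3 = 1 ∧ ∀ i j, (h : Matrix (Fin 3) (Fin 3) F) i j = r * (g : Matrix (Fin 3) (Fin 3) F) i j := by
  have hc := QuotientGroup.eq.mp (e : (g : PSL(3, F)) = h)
  obtain ⟨r, hr3, hr⟩ := Matrix.SpecialLinearGroup.mem_center_iff.mp hc
  rw [Fintype.card_fin] at hr3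
  refine ⟨r, hr3, fun i j => ?_⟩
  have e' : (h : Matrix (Fin 3) (Fin 3) F) = (g : Matrix (Fin 3) (Fin 3) F) * Matrix.scalar (Fin 3) r := by
    rw [hr, ← Matrix.SpecialLinearGroup.coe_mul, mul_inv_cancel_left]
  rw [e', Matrix.scalar_apply, Matrix.mul_diagonal, mul_comm]

theorem pm_inj {a b c a' b' c' : F} (h : pm a b c = pm a' b' c') : a = a' ∧ b = b' ∧ c = c' := by
  obtain ⟨r, -, hr⟩ := exists_scalar h
  have h0 := hr 0 0; have h1 := hr 0 1; have h2 := hr 1 2; have h3 := hr 0 2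
  simp [um] at h0 h1 h2 h3
  subst h0
  simp_all

/-- The unitriangular subgroup. -/
def U : Subgroup PSL(3, F) where
  carrier := {g | ∃ a b c, g = pm a b c}
  one_mem' := ⟨0, 0, 0, pm_zero.symm⟩
  mul_mem' := by
    rintro _ _ ⟨a, b, c, rfl⟩ ⟨a', b', c', rfl⟩
    exact ⟨_, _, _, pm_mul a b c a' b' c'⟩
  inv_mem' := by
    rintro _ ⟨a, b, c, rfl⟩
    exact ⟨_, _, _, pm_inv a b c⟩

/-- The transvections with a common centre. -/
def A₁ : Subgroup PSL(3, F) where
  carrier := {g | ∃ a c, g = pm a 0 c}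
  one_mem' := ⟨0, 0, pm_zero.symm⟩
  mul_mem' := by
    rintro _ _ ⟨a, c, rfl⟩ ⟨a', c', rfl⟩
    exact ⟨a + a', c + c', by rw [pm_mul, mul_zero, add_zero, add_zero]⟩
  inv_mem' := by
    rintro _ ⟨a, c, rfl⟩
    exact ⟨-a, -c, by rw [pm_inv, mul_zero, neg_zero, zero_sub]⟩

/-- The transvections with a common axis. -/
def A₂ : Subgroup PSL(3, F) where
  carrier := {g | ∃ b c, g = pm 0 b c}
  one_mem' := ⟨0, 0, pm_zero.symm⟩
  mul_mem' := by
    rintro _ _ ⟨a, c, rfl⟩ ⟨a', c', rfl⟩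
    exact ⟨a + a', c + c', by rw [pm_mul, zero_mul, add_zero, add_zero]⟩
  inv_mem' := by
    rintro _ ⟨a, c, rfl⟩
    exact ⟨-a, -c, by rw [pm_inv, zero_mul, neg_zero, zero_sub]⟩

theorem A₁_le : (A₁ : Subgroup PSL(3, F)) ≤ U := fun _ ⟨a, c, h⟩ => ⟨a, 0, c, h⟩

theorem A₂_le : (A₂ : Subgroup PSL(3, F)) ≤ U := fun _ ⟨b, c, h⟩ => ⟨0, b, c, h⟩

theorem card_U : Nat.card (U : Subgroup PSL(3, F)) = Nat.card F * Nat.card F * Nat.card F := by
  rw [mul_assoc, ← Nat.card_prod, ← Nat.card_prod]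
  refine (Nat.card_congr (Equiv.ofBijective
    (fun p : F × F × F => (⟨pm p.1 p.2.1 p.2.2, _, _, _, rfl⟩ : (U : Subgroup PSL(3, F)))) ⟨?_, ?_⟩)).symm
  · rintro ⟨a, b, c⟩ ⟨a', b', c'⟩ h
    obtain ⟨rfl, rfl, rfl⟩ := pm_inj (congrArg Subtype.val h :)
    rfl
  · rintro ⟨_, a, b, c, rfl⟩
    exact ⟨(a, b, c), rfl⟩

theorem card_A₁ : Nat.card (A₁ : Subgroup PSL(3, F)) = Nat.card F * Nat.card F := by
  rw [← Nat.card_prod]
  refine (Nat.card_congr (Equiv.ofBijective
    (fun p : F × F => (⟨pm p.1 0 p.2, _, _, rfl⟩ : (A₁ : Subgroup PSL(3, F)))) ⟨?_, ?_⟩)).symm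
  · rintro ⟨a, c⟩ ⟨a', c'⟩ h
    obtain ⟨rfl, -, rfl⟩ := pm_inj (congrArg Subtype.val h :)
    rfl
  · rintro ⟨_, a, c, rfl⟩
    exact ⟨(a, c), rfl⟩

theorem card_A₂ : Nat.card (A₂ : Subgroup PSL(3, F)) = Nat.card F * Nat.card F := by
  rw [← Nat.card_prod]
  refine (Nat.card_congr (Equiv.ofBijective
    (fun p : F × F => (⟨pm 0 p.1 p.2, _, _, rfl⟩ : (A₂ : Subgroup PSL(3, F)))) ⟨?_, ?_⟩)).symm
  · rintro ⟨a, c⟩ ⟨a', c'⟩ h
    obtain ⟨-, rfl, rfl⟩ := pm_inj (congrArg Subtype.val h :)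
    rfl
  · rintro ⟨_, a, c, rfl⟩
    exact ⟨(a, c), rfl⟩

/-- An elementary abelian subgroup of order `q²` of the unitriangular subgroup is one of the two. -/
theorem eq_A₁_or_eq_A₂ [Finite F] (h2 : (2 : F) = 0) {E : Subgroup PSL(3, F)} (hE : E ≤ U)
    (hc : ∀ x ∈ E, ∀ y ∈ E, x * y = y * x) (he : ∀ x ∈ E, x * x = 1)
    (hcard : Nat.card E = Nat.card F * Nat.card F) : E = A₁ ∨ E = A₂ := by
  have hz : ∀ {a b c : F}, pm a b c ∈ E → a * b = 0 := fun {a b c} h => by
    have h1 := he _ h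
    rw [pm_mul, ← pm_zero] at h1
    obtain ⟨-, hb2, hc2⟩ := pm_inj h1
    linear_combination hc2 - c * h2
  by_cases hA : ∃ a b c, pm a b c ∈ E ∧ a ≠ 0
  · left
    obtain ⟨a, b, c, hab, ha⟩ := hA
    have hb : b = 0 := (mul_eq_zero.mp (hz hab)).resolve_left ha
    subst hb
    refine Subgroup.eq_of_le_of_card_ge (fun x hx => ?_) (by rw [hcard, card_A₁])
    obtain ⟨a', b', c', rfl⟩ := hE hx
    have h1 := hc _ hab _ hx
    rw [pm_mul, pm_mul] at h1
    obtain ⟨-, -, h2⟩ := pm_inj h1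
    have : a * b' = 0 := by linear_combination h2
    rw [(mul_eq_zero.mp this).resolve_left ha]
    exact ⟨a', c', rfl⟩
  · right
    refine Subgroup.eq_of_le_of_card_ge (fun x hx => ?_) (by rw [hcard, card_A₂])
    obtain ⟨a', b', c', rfl⟩ := hE hx
    rw [show a' = 0 from by_contra fun h => hA ⟨a', b', c', hx, h⟩]
    exact ⟨b', c', rfl⟩

theorem rt_eq {i j : Fin 3} (h : i ≠ j) (t : F) (g : SL(3, F))
    (e : (g : Matrix (Fin 3) (Fin 3) F) = 1 + Matrix.single i j t) : rt i j t = mkP g := by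
  rw [rt, show tv i j t = g from Subtype.ext ((coe_tv h t).trans e.symm)]

theorem rt01 (t : F) : rt 0 1 t = pm t 0 0 :=
  rt_eq (by decide) t _ (by ext i j; fin_cases i <;> fin_cases j <;> simp [um, Matrix.single])

theorem rt12 (t : F) : rt 1 2 t = pm 0 t 0 :=
  rt_eq (by decide) t _ (by ext i j; fin_cases i <;> fin_cases j <;> simp [um, Matrix.single])

theorem rt02 (t : F) : rt 0 2 t = pm 0 0 t :=
  rt_eq (by decide) t _ (by ext i j; fin_cases i <;> fin_cases j <;> simp [um, Matrix.single])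

/-! ### The Levi complement -/

/-- The block diagonal embedding of `SL₂`. -/
def levi : SL(2, F) →* SL(3, F) where
  toFun B := ⟨!![1, 0, 0; 0, B.1 0 0, B.1 0 1; 0, B.1 1 0, B.1 1 1], by
    have h := B.2
    rw [Matrix.det_fin_two] at h
    simp [Matrix.det_fin_three]
    linear_combination h⟩
  map_one' := by
    apply Subtype.ext
    ext i j
    fin_cases i <;> fin_cases j <;> simp
  map_mul' B B' := by
    apply Subtype.ext
    show _ = _ * _
    ext i j
    fin_cases i <;> fin_cases j <;>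
      simp [Matrix.mul_apply, Fin.sum_univ_two, Fin.sum_univ_three, Matrix.vecMul, dotProduct]

theorem levi_coe (B : SL(2, F)) : (levi B : Matrix (Fin 3) (Fin 3) F) =
    !![1, 0, 0; 0, B.1 0 0, B.1 0 1; 0, B.1 1 0, B.1 1 1] := rfl

theorem levi_normalizes (B : SL(2, F)) :
    mkP (levi B) ∈ Subgroup.normalizer ((A₁ : Subgroup PSL(3, F)) : Set PSL(3, F)) := by
  have key : ∀ (B : SL(2, F)) (x : PSL(3, F)), x ∈ (A₁ : Subgroup PSL(3, F)) →
      mkP (levi B) * x * (mkP (levi B))⁻¹ ∈ (A₁ : Subgroup PSL(3, F)) := by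
    rintro B x ⟨a, c, rfl⟩
    refine ⟨a * B.1 1 1 - c * B.1 1 0, c * B.1 0 0 - a * B.1 0 1, ?_⟩
    rw [mul_inv_eq_iff_eq_mul, pm, pm, ← map_mul, ← map_mul]
    congr 1
    apply Subtype.ext
    show _ * _ = _ * _
    have h := B.2
    rw [Matrix.det_fin_two] at h
    ext i j
    fin_cases i <;> fin_cases j <;>
      simp [levi_coe, um, Matrix.mul_apply, Fin.sum_univ_three, Matrix.vecMul, dotProduct]
    · linear_combination -a * h
    · linear_combination -c * h
  refine Subgroup.mem_normalizer_iff.mpr fun x => ⟨key B x, fun hx => ?_⟩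
  have := key B⁻¹ _ hx
  simpa [mul_assoc] using this

theorem A₁_le_normalizer : (A₁ : Subgroup PSL(3, F)) ≤ Subgroup.normalizer ((A₁ : Subgroup PSL(3, F)) : Set PSL(3, F)) :=
  Subgroup.le_normalizer

theorem levi_A₁_inj {B : SL(2, F)} (h : mkP (levi B) ∈ (A₁ : Subgroup PSL(3, F))) : B = 1 := by
  obtain ⟨a, c, e⟩ := h
  obtain ⟨r, -, hr⟩ := exists_scalar (e.trans rfl : mkP (levi B) = mkP (um a 0 c))
  have h0 := hr 0 0; have h1 := hr 1 1; have h2 := hr 1 2; have h3 := hr 2 1; have h4 := hr 2 2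
  rw [levi_coe] at h0 h1 h2 h3 h4
  simp [um] at h0 h1 h2 h3 h4
  subst h0
  simp only [one_mul] at *
  apply Subtype.ext
  ext i j
  fin_cases i <;> fin_cases j
  · simpa using h1.symm
  · simpa using h2
  · simpa using h3
  · simpa using h4.symm

theorem normalizer_le [Fintype F] (hF : Fintype.card F = 4) {x : PSL(3, F)}
    (hx : x ∈ Subgroup.normalizer ((A₁ : Subgroup PSL(3, F)) : Set PSL(3, F))) :
    ∃ (B : SL(2, F)) (a c : F), x = mkP (levi B) * pm a 0 c := by
  obtain ⟨g, rfl⟩ := CfsgLib.AutPSL.mkP_surjective x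
  obtain ⟨a', c', e⟩ := (Subgroup.mem_normalizer_iff.mp hx (pm 1 0 0)).mp ⟨1, 0, rfl⟩
  rw [mul_inv_eq_iff_eq_mul, pm, pm, ← map_mul, ← map_mul] at e
  obtain ⟨r, -, hr⟩ := exists_scalar e
  set M := (g : Matrix (Fin 3) (Fin 3) F) with hM
  have h10 := hr 1 0; have h11 := hr 1 1; have h20 := hr 2 0; have h21 := hr 2 1
  simp only [Matrix.SpecialLinearGroup.coe_mul] at h10 h11 h20 h21
  simp [um, Matrix.mul_apply, Fin.sum_univ_three, Matrix.vecMul, dotProduct, ← hM] at h10 h11 h20 h21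
  have z1 : M 1 0 = 0 := by
    by_contra h
    have hr1 : r = 1 := mul_right_cancel₀ h (by rw [one_mul]; linear_combination -h10)
    subst hr1
    exact h (by linear_combination -h11)
  have z2 : M 2 0 = 0 := by
    by_contra h
    have hr1 : r = 1 := mul_right_cancel₀ h (by rw [one_mul]; linear_combination -h20)
    subst hr1
    exact h (by linear_combination -h21)
  have hd : M.det = 1 := g.2
  rw [Matrix.det_fin_three, z1, z2] at hd
  have hα : M 0 0 ≠ 0 := fun h => by rw [h] at hd; simp at hd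
  set β := (M 0 0)⁻¹ with hβ
  have hβ3 : β ^ 3 = 1 := by
    have h := FiniteField.pow_card_sub_one_eq_one β (inv_ne_zero hα)
    rwa [hF] at h
  let g' : SL(3, F) := ⟨β • M, by rw [Matrix.det_smul, Fintype.card_fin, hβ3, show M.det = 1 from g.2, mul_one]⟩
  have hg' : mkP g' = mkP g := by
    refine QuotientGroup.eq.mpr (Matrix.SpecialLinearGroup.mem_center_iff.mpr ⟨β⁻¹, ?_, ?_⟩)
    · rw [Fintype.card_fin, inv_pow, hβ3, inv_one]
    · have e' : (g' : Matrix (Fin 3) (Fin 3) F) * Matrix.scalar (Fin 3) β⁻¹ = M := by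
        show (β • M) * Matrix.scalar (Fin 3) β⁻¹ = M
        ext i j
        rw [Matrix.scalar_apply, Matrix.mul_diagonal, Matrix.smul_apply, smul_eq_mul,
          mul_comm β, mul_assoc, mul_inv_cancel₀ (inv_ne_zero hα), mul_one]
      rw [Matrix.SpecialLinearGroup.coe_mul, ← hM, ← e', ← mul_assoc, ← Matrix.SpecialLinearGroup.coe_mul,
        inv_mul_cancel, Matrix.SpecialLinearGroup.coe_one, one_mul]
  have hB : (β * M 1 1) * (β * M 2 2) - (β * M 1 2) * (β * M 2 1) = 1 := by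
    have hb : β * M 0 0 = 1 := inv_mul_cancel₀ hα
    linear_combination (β ^ 3) * hd + hβ3 - ((β * M 1 1) * (β * M 2 2) - (β * M 1 2) * (β * M 2 1)) * hb
  refine ⟨⟨!![β * M 1 1, β * M 1 2; β * M 2 1, β * M 2 2], by rw [Matrix.det_fin_two]; simpa using hB⟩,
    β * M 0 1, β * M 0 2, ?_⟩
  rw [← hg', pm, ← map_mul]
  congr 1
  apply Subtype.ext
  show β • M = !![1, 0, 0; 0, β * M 1 1, β * M 1 2; 0, β * M 2 1, β * M 2 2] * _
  ext i j
  fin_cases i <;> fin_cases j <;>
    simp [levi_coe, um, Matrix.mul_apply, Fin.sum_univ_three, Matrix.vecMul, dotProduct, z1, z2, hβ, hα]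

/-! ### The graph automorphism -/

/-- The antidiagonal matrix. -/
def anti : SL(3, F) :=
  ⟨!![0, 0, -1; 0, -1, 0; -1, 0, 0], by simp [Matrix.det_fin_three]⟩

/-- An automorphism exchanging the two subgroups. -/
def flip : MulAut PSL(3, F) := MulAut.conj (mkP anti) * CfsgLib.AutPSL.graphAut

theorem flip_pm (a b c : F) : flip (pm a b c) = pm (-b) (-a) (a * b - c) := by
  show mkP anti * CfsgLib.AutPSL.graphAut (pm a b c) * (mkP anti)⁻¹ = _
  rw [mul_inv_eq_iff_eq_mul, pm, pm]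
  show mkP anti * ((CfsgLib.AutPSL.invTr (um a b c) : SL(3, F)) : PSL(3, F)) = _
  rw [← map_mul, show ((CfsgLib.AutPSL.invTr (um a b c) : SL(3, F)) : PSL(3, F)) =
    mkP (CfsgLib.AutPSL.invTr (um a b c)) from rfl, ← map_mul]
  congr 1
  apply Subtype.ext
  show _ * _ = _ * _
  rw [CfsgLib.AutPSL.invTr_coe, um_inv]
  ext i j
  fin_cases i <;> fin_cases j <;>
    simp [anti, um, Matrix.mul_apply, Fin.sum_univ_three, Matrix.vecMul, dotProduct]

theorem comap_flip_U : (U : Subgroup PSL(3, F)).comap flip.toMonoidHom = U := by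
  refine le_antisymm (fun x hx => ?_) (fun x hx => ?_)
  · obtain ⟨a, b, c, e⟩ := hx
    refine ⟨-b, -a, a * b - c, flip.injective ?_⟩
    rw [flip_pm, show flip x = pm a b c from e]
    congr 1 <;> ring
  · obtain ⟨a, b, c, rfl⟩ := hx
    exact ⟨_, _, _, flip_pm a b c⟩

theorem comap_flip_A₁ : (A₁ : Subgroup PSL(3, F)).comap flip.toMonoidHom = A₂ := by
  refine le_antisymm (fun x hx => ?_) (fun x hx => ?_)
  · obtain ⟨a, c, e⟩ := hx
    refine ⟨-a, -c, flip.injective ?_⟩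
    rw [flip_pm, show flip x = pm a 0 c from e]
    congr 1 <;> ring
  · obtain ⟨b, c, rfl⟩ := hx
    exact ⟨-b, -c, (flip_pm 0 b c).trans (by rw [neg_zero, zero_mul, zero_sub])⟩

end CfsgLib.LFourElemCover
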