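import Mathlib
import Cfsg.Prelude.Def_Transfer
import Cfsg.Agent.Lib.LFourElemCover.Model
import Cfsg.Agent.Lib.Gaschutz.Split

/-!
# Central extensions of `PSL(3, 4)` with elementary abelian kernel
-/

set_option autoImplicit false
set_option linter.style.haveILetI false

open Matrix
open scoped MatrixGroups commutatorElement
open CfsgLib.Schur.LThreeFour (rt rt_add rt_rel shear_row shear_col add_zero_eq)
open CfsgLib.Schur.SLFam (dia isMono_dia IsMono)
open CfsgLib.Schur.OmegaMinusTwo (C C_eq)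
open CfsgLib.AutPSL (mkP)

namespace CfsgLib.LFourElemCover

universe u v

variable {F : Type u} [Field F] [Fintype F] {X : Type v} [Group X]

/-- Additive lifts of the root groups, two of which commute. -/
theorem exists_lifts (hF : Fintype.card F = 4) (σ : X →* PSL(3, F)) (hs : Function.Surjective σ)
    (hc : σ.ker ≤ Subgroup.center X) (hk : ∀ z ∈ σ.ker, z * z = 1) :
    ∃ y12 y13 y23 : F → X, (∀ x, σ (y12 x) = pm x 0 0) ∧ (∀ x, σ (y13 x) = pm 0 0 x) ∧
      (∀ x, σ (y23 x) = pm 0 x 0) ∧ (∀ a b, y12 (a + b) = y12 a * y12 b) ∧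
      (∀ a b, y13 (a + b) = y13 a * y13 b) ∧ (∀ a b, y23 (a + b) = y23 a * y23 b) ∧
      ∀ a x, Commute (y12 a) (y13 x) := by
  classical
  obtain ⟨w, hw⟩ := CfsgLib.Classical.PSLThreeFour.exists_w hF
  have h2 := CfsgLib.Classical.PSLThreeFour.two_eq_zero hF
  have hall : ∀ x : F, x = 0 ∨ x = 1 ∨ x = w ∨ x = w + 1 := fun x => by
    obtain ⟨⟨_ | _, _ | _⟩, rfl⟩ := CfsgLib.Classical.PSLThreeFour.val_surjective hF hw x <;>
      simp [CfsgLib.Classical.PSLThreeFour.val, add_comm]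
  have hw3 : w * (w * w) = 1 := by linear_combination (w + 1) * hw + w * h2
  have n01 : (0 : Fin 3) ≠ 1 := by decide
  have n02 : (0 : Fin 3) ≠ 2 := by decide
  have n12 : (1 : Fin 3) ≠ 2 := by decide
  obtain ⟨d13, -⟩ := (shear_row n01 n02 n12 h2).trivial h2 hw hall hc (hs := hs)
  obtain ⟨d12, -⟩ := (shear_row n02 n01 n12.symm h2).trivial h2 hw hall hc (hs := hs)
  obtain ⟨d23, -⟩ := (shear_col (i := 2) (j := 0) (l := 1) n02 n12 n01.symm).trivial h2 hw hall hc (hs := hs)
  let d : Fin 3 → F := ![1, w, w * w]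
  have hd : ∏ i, d i = 1 := by simp [d, Fin.prod_univ_three, hw3]
  obtain ⟨H, hH⟩ := hs (mkP (dia d hd))
  have hscale : ∀ (i j : Fin 3), i ≠ j → ∀ x : F, σ H * rt i j x * (σ H)⁻¹ = rt i j (d i * x / d j) :=
    fun i j h x => by
      rw [hH, rt, ← map_inv, ← map_mul, ← map_mul, (isMono_dia d hd).tv_conj h x]
      rfl
  have hw0 : w ≠ 0 := fun h => by subst h; simp at hw
  have hν1 : w * w ≠ 1 := fun h => hw0 (by linear_combination h - hw)
  have hw1 : w ≠ 1 := fun h => hν1 (by rw [h, mul_one])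
  have winv : w⁻¹ = w * w := inv_eq_of_mul_eq_one_right hw3
  have νinv : (w * w)⁻¹ = w := inv_eq_of_mul_eq_one_right (by rw [mul_comm]; exact hw3)
  have mk : ∀ (i j : Fin 3), i ≠ j → ∀ l : F, l ≠ 1 → (∀ x : F, d i * x / d j = l * x) →
      (∀ s t : F, C σ hs (rt i j s) (rt i j t) = 1) →
      ∃ y : F → X, (∀ x, σ (y x) = rt i j x) ∧ ∀ a b, y (a + b) = y a * y b := by
    intro i j hij l hl hdl hδ
    have hl1 : l - 1 ≠ 0 := sub_ne_zero.mpr hl
    let s : F → X := fun x => Function.surjInv hs (rt i j x)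
    have hsx : ∀ x, σ (s x) = rt i j x := fun x => Function.surjInv_eq hs _
    have hcm : ∀ x, σ ⁅H, s x⁆ = rt i j ((l - 1) * x) := fun x => by
      rw [map_commutatorElement, commutatorElement_def, hsx, hscale i j hij, hdl,
        mul_inv_eq_iff_eq_mul, ← rt_add hij]
      congr 1; ring
    refine ⟨fun x => ⁅H, s (x / (l - 1))⁆, fun x => ?_, fun a b => ?_⟩
    · rw [hcm, mul_div_cancel₀ _ hl1]
    · show ⁅H, s ((a + b) / (l - 1))⁆ = _
      rw [add_div, CfsgLib.Schur.commutatorElement_congr σ hc (a' := H)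
        (b' := s (a / (l - 1)) * s (b / (l - 1))) rfl (by rw [map_mul, hsx, hsx, hsx, rt_add hij])]
      have hcomm : Commute (s (a / (l - 1))) ⁅H, s (b / (l - 1))⁆ := by
        rw [← commutatorElement_eq_one_iff_commute, ← C_eq hc (hsx _) (hcm _) (hs := hs)]
        exact hδ _ _
      rw [show ⁅H, s (a / (l - 1)) * s (b / (l - 1))⁆ =
          ⁅H, s (a / (l - 1))⁆ * (s (a / (l - 1)) * ⁅H, s (b / (l - 1))⁆ * (s (a / (l - 1)))⁻¹) by
        simp only [commutatorElement_def]; group, hcomm.eq, mul_inv_cancel_right]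
  obtain ⟨y12, s12, a12⟩ := mk 0 1 n01 (w * w) hν1 (fun x => by simp [d, div_eq_mul_inv, winv, mul_comm]) d12
  obtain ⟨y23, s23, a23⟩ := mk 1 2 n12 (w * w) hν1 (fun x => by
    show w * x / (w * w) = w * w * x
    rw [div_eq_mul_inv, νinv]; ring) d23
  obtain ⟨y13, s13, a13⟩ := mk 0 2 n02 w hw1 (fun x => by
    show 1 * x / (w * w) = w * x
    rw [div_eq_mul_inv, νinv]; ring) d13
  refine ⟨y12, y13, y23, fun x => (s12 x).trans (rt01 x), fun x => (s13 x).trans (rt02 x),
    fun x => (s23 x).trans (rt12 x), a12, a13, a23, fun a x => ?_⟩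
  by_cases ha : a = 0
  · subst ha; rw [add_zero_eq a12]; exact Commute.one_left _
  set b := x / a with hb
  have hab : a * b = x := by rw [hb]; field_simp
  -- the square of `y12 a` commutes with `y23 b`
  have hk0 : ⁅y12 a, y23 b⁆ * (y13 (a * b))⁻¹ ∈ σ.ker := by
    rw [MonoidHom.mem_ker, map_mul, map_inv, map_commutatorElement, s12, s23, s13,
      rt_rel n01 n12 n02, mul_inv_cancel]
  set z := ⁅y12 a, y23 b⁆ * (y13 (a * b))⁻¹ with hz
  have hzc : ∀ g, g * z = z * g := fun g => Subgroup.mem_center_iff.mp (hc hk0) g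
  have hz2 := hk z hk0
  have hcm : ⁅y12 a, y23 b⁆ = z * y13 (a * b) := by rw [hz, inv_mul_cancel_right]
  have hy2 : y13 (a * b) * y13 (a * b) = 1 := by
    rw [← a13, ← two_mul, h2, zero_mul, add_zero_eq a13]
  have haa : y12 a * y12 a = 1 := by rw [← a12, ← two_mul, h2, zero_mul, add_zero_eq a12]
  have e : y12 a * ⁅y12 a, y23 b⁆ * (y12 a)⁻¹ * ⁅y12 a, y23 b⁆ = 1 := by
    have h : ⁅y12 a * y12 a, y23 b⁆ = 1 := by rw [haa, commutatorElement_one_left]
    rw [← h]; simp only [commutatorElement_def]; group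
  have key : Commute (y12 a) (y13 (a * b)) := by
    rw [hcm, ← mul_assoc (y12 a), hzc (y12 a)] at e
    have e' : y12 a * y13 (a * b) * (y12 a)⁻¹ * y13 (a * b) = 1 := by
      calc y12 a * y13 (a * b) * (y12 a)⁻¹ * y13 (a * b)
          = z * z * (y12 a * y13 (a * b) * (y12 a)⁻¹ * y13 (a * b)) := by rw [hz2, one_mul]
        _ = z * (z * (y12 a * y13 (a * b) * (y12 a)⁻¹)) * y13 (a * b) := by group
        _ = z * ((y12 a * y13 (a * b) * (y12 a)⁻¹) * z) * y13 (a * b) := by rw [hzc (y12 a * y13 (a * b) * (y12 a)⁻¹)]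
        _ = z * y12 a * y13 (a * b) * (y12 a)⁻¹ * (z * y13 (a * b)) := by group
        _ = 1 := e
    have e'' := mul_eq_one_iff_eq_inv.mp e'
    rw [inv_eq_of_mul_eq_one_left hy2] at e''
    exact mul_inv_eq_iff_eq_mul.mp e''
  exact hab ▸ key

/-- The Levi factor gives a complement in the normalizer. -/
theorem side [Finite X] (hF : Fintype.card F = 4) (σ : X →* PSL(3, F)) (hs : Function.Surjective σ)
    (hc : σ.ker ≤ Subgroup.center X) (hk : ∀ z ∈ σ.ker, z * z = 1) :
    Cfsg.IsElementaryAbelian 2 (A₁.comap σ) ∧ ∃ C : Subgroup X,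
      C ≤ Subgroup.normalizer ((A₁.comap σ : Subgroup X) : Set X) ∧ C ⊓ A₁.comap σ = ⊥ ∧
      A₁.comap σ ⊔ C = Subgroup.normalizer ((A₁.comap σ : Subgroup X) : Set X) ∧
      Nonempty (C ≃* PSL(2, F)) := by
  classical
  have h2 := CfsgLib.Classical.PSLThreeFour.two_eq_zero hF
  obtain ⟨y12, y13, y23, s12, s13, s23, a12, a13, a23, hcomm⟩ := exists_lifts hF σ hs hc hk
  set H := (A₁.comap σ : Subgroup X) with hH
  have hcen : ∀ z ∈ σ.ker, ∀ g, Commute g z := fun z hz g => Subgroup.mem_center_iff.mp (hc hz) g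
  have hdec : ∀ h ∈ H, ∃ z ∈ σ.ker, ∃ a c, h = z * (y12 a * y13 c) := by
    rintro h ⟨a, c, e⟩
    refine ⟨h * (y12 a * y13 c)⁻¹, ?_, a, c, (inv_mul_cancel_right _ _).symm⟩
    rw [MonoidHom.mem_ker, map_mul, map_inv, map_mul, s12, s13, e, pm_mul]
    simp
  have c12 : ∀ a a', Commute (y12 a) (y12 a') := fun a a' => by
    rw [Commute, SemiconjBy, ← a12, ← a12, add_comm]
  have c13 : ∀ a a', Commute (y13 a) (y13 a') := fun a a' => by
    rw [Commute, SemiconjBy, ← a13, ← a13, add_comm]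
  have hHc : ∀ h ∈ H, ∀ h' ∈ H, Commute h h' := by
    intro h hh h' hh'
    obtain ⟨z, hz, a, c, rfl⟩ := hdec h hh
    obtain ⟨z', hz', a', c', rfl⟩ := hdec h' hh'
    have h1 : Commute (y12 a * y13 c) (y12 a' * y13 c') :=
      ((c12 a a').mul_right (hcomm a c')).mul_left ((hcomm a' c).symm.mul_right (c13 c c'))
    exact ((hcen z hz _).symm).mul_left ((hcen z' hz' _).mul_right h1)
  have hH2 : ∀ h ∈ H, h ^ 2 = 1 := by
    intro h hh
    obtain ⟨z, hz, a, c, rfl⟩ := hdec h hh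
    have e12 : y12 a * y12 a = 1 := by rw [← a12, ← two_mul, h2, zero_mul, add_zero_eq a12]
    have e13 : y13 c * y13 c = 1 := by rw [← a13, ← two_mul, h2, zero_mul, add_zero_eq a13]
    rw [((hcen z hz _).symm).mul_pow, (hcomm a c).mul_pow, sq, sq, sq, hk z hz, e12, e13, one_mul, one_mul]
  refine ⟨⟨⟨⟨fun a b => Subtype.ext (hHc a a.2 b b.2).eq⟩⟩, hH2⟩, ?_⟩
  set N₀ := Subgroup.normalizer ((A₁ : Subgroup PSL(3, F)) : Set PSL(3, F)) with hN₀
  set N := Subgroup.normalizer (H : Set X) with hN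
  have hNeq : N = N₀.comap σ := (Subgroup.comap_normalizer_eq_of_surjective A₁ hs).symm
  have hHN : H ≤ N := Subgroup.le_normalizer
  -- the part above `H` in the Sylow subgroup
  set W := (U.comap σ : Subgroup X) with hW
  have hUN : (U : Subgroup PSL(3, F)) ≤ N₀ := by
    rintro _ ⟨a, b, c, rfl⟩
    refine Subgroup.mem_normalizer_iff.mpr fun x => ⟨?_, ?_⟩
    · rintro ⟨a', c', rfl⟩
      refine ⟨a', c' - a' * b, ?_⟩
      rw [pm_inv, pm_mul, pm_mul]
      congr 1 <;> ring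
    · rintro ⟨a', c', e⟩
      refine ⟨a', c' + a' * b, ?_⟩
      have : x = (pm a b c)⁻¹ * pm a' 0 c' * pm a b c := by rw [← e]; group
      rw [this, pm_inv, pm_mul, pm_mul]
      congr 1 <;> ring
  have hWN : W ≤ N := fun x hx => by rw [hNeq]; exact hUN hx
  let y : Multiplicative F →* X := MonoidHom.mk' (fun b => y23 b.toAdd) fun a b => a23 _ _
  set L := y.range
  have hLW : L ≤ W := by rintro _ ⟨b, rfl⟩; exact ⟨0, b.toAdd, 0, s23 _⟩
  set K := H.subgroupOf N
  haveI : K.Normal := Subgroup.normal_in_normalizer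
  haveI : IsMulCommutative K := ⟨⟨fun a b => Subtype.ext (Subtype.ext (hHc _ a.2 _ b.2).eq)⟩⟩
  have hdisj : L.subgroupOf N ⊓ K = ⊥ := by
    refine (Subgroup.eq_bot_iff_forall _).mpr fun x hx => Subtype.ext ?_
    obtain ⟨b, hb⟩ := hx.1
    have hxH : σ (x : X) ∈ (A₁ : Subgroup PSL(3, F)) := hx.2
    obtain ⟨a, c, e⟩ := hxH
    obtain ⟨-, hb0, -⟩ := pm_inj ((s23 _).symm.trans ((congrArg σ hb).trans e))
    show (x : X) = 1
    refine hb.symm.trans ?_
    show y23 b.toAdd = 1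
    rw [hb0, add_zero_eq a23]
  have hsup : K ⊔ L.subgroupOf N = W.subgroupOf N := by
    have hHW : H ≤ W := fun x hx => A₁_le hx
    refine le_antisymm (sup_le (fun x hx => hHW hx) fun x hx => hLW hx) ?_
    intro x hx
    obtain ⟨a, b, c, e⟩ : σ (x : X) ∈ U := hx
    have hl : y23 b ∈ N := hWN (hLW ⟨Multiplicative.ofAdd b, rfl⟩)
    have hh : (x : X) * (y23 b)⁻¹ ∈ H := by
      refine ⟨a, c + a * -b, ?_⟩
      rw [map_mul, map_inv, e, s23, pm_inv, pm_mul]
      congr 1 <;> ring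
    have hx' : x = (⟨(x : X) * (y23 b)⁻¹, hHN hh⟩ : N) * ⟨y23 b, hl⟩ :=
      Subtype.ext (inv_mul_cancel_right _ _).symm
    rw [hx']
    exact Subgroup.mul_mem_sup hh (show (⟨y23 b, hl⟩ : N) ∈ L.subgroupOf N from ⟨Multiplicative.ofAdd b, rfl⟩)
  have hcop : (Nat.card K).Coprime (W.subgroupOf N).index := by
    haveI : Fact (Nat.Prime 2) := ⟨Nat.prime_two⟩
    have hKp : IsPGroup 2 K := fun k => ⟨1, Subtype.ext (Subtype.ext (by simpa using hH2 _ k.2))⟩
    obtain ⟨n, hn⟩ := IsPGroup.iff_card.mp hKp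
    have hidx : W.index = 315 := by
      have h := (U : Subgroup PSL(3, F)).card_mul_index
      rw [card_U, Nat.card_eq_fintype_card (α := F), hF, CfsgLib.Schur.LThreeFour.card_PSL_three_four hF] at h
      rw [hW, Subgroup.index_comap_of_surjective _ hs]
      omega
    have hd : (W.subgroupOf N).index ∣ 315 := hidx ▸ ⟨N.index, (Subgroup.relIndex_mul_index hWN).symm⟩
    rw [hn]
    exact Nat.Coprime.pow_left n (Nat.Coprime.coprime_dvd_right hd (by norm_num))
  obtain ⟨C', hC'⟩ := CfsgLib.Gaschutz.exists_complement (K := K) (U := W.subgroupOf N) (A := L.subgroupOf N)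
    (hsup ▸ le_sup_left) hcop hdisj hsup
  refine ⟨C'.map N.subtype, Subgroup.map_subtype_le _, ?_, ?_, ?_⟩
  · refine (Subgroup.eq_bot_iff_forall _).mpr ?_
    rintro _ ⟨⟨x, hx, rfl⟩, hxH⟩
    exact congrArg Subtype.val (Subgroup.disjoint_def.mp hC'.disjoint (show x ∈ K from hxH) hx)
  · have h := congrArg (Subgroup.map N.subtype) hC'.sup_eq_top
    rw [Subgroup.map_sup, ← MonoidHom.range_eq_map, Subgroup.range_subtype,
      Subgroup.subgroupOf_map_subtype, inf_eq_left.mpr hHN] at h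
    exact h
  -- the quotient is `SL₂`
  let T := A₁.subgroupOf N₀
  haveI : T.Normal := Subgroup.normal_in_normalizer
  let σN : N →* N₀ := (σ.comp N.subtype).codRestrict N₀ fun x =>
    (hNeq.le x.2 : σ (x : X) ∈ N₀)
  let f := (QuotientGroup.mk' T).comp σN
  have hfs : Function.Surjective f := by
    intro q
    obtain ⟨g, rfl⟩ := QuotientGroup.mk'_surjective T q
    obtain ⟨x, hx⟩ := hs g
    exact ⟨⟨x, by rw [hNeq, Subgroup.mem_comap, hx]; exact g.2⟩,
      congrArg (QuotientGroup.mk' T) (Subtype.ext hx)⟩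
  have hfk : f.ker = K := by
    ext x
    rw [MonoidHom.mem_ker]
    exact (QuotientGroup.eq_one_iff _).trans Iff.rfl
  let ι : SL(2, F) →* N₀ := (mkP.comp levi).codRestrict N₀ levi_normalizes
  let j := (QuotientGroup.mk' T).comp ι
  have hj : Function.Bijective j := by
    refine ⟨(injective_iff_map_eq_one j).mpr fun B hB => levi_A₁_inj ?_, fun q => ?_⟩
    · exact Subgroup.mem_subgroupOf.mp ((QuotientGroup.eq_one_iff _).mp hB)
    · obtain ⟨g, rfl⟩ := QuotientGroup.mk'_surjective T q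
      obtain ⟨B, a, c, e⟩ := normalizer_le hF g.2
      refine ⟨B, QuotientGroup.eq.mpr (Subgroup.mem_subgroupOf.mpr ?_)⟩
      show (mkP (levi B))⁻¹ * (g : PSL(3, F)) ∈ (A₁ : Subgroup PSL(3, F))
      rw [e, inv_mul_cancel_left]
      exact ⟨a, c, rfl⟩
  have hcen2 : Subgroup.center SL(2, F) = ⊥ := by
    refine (Subgroup.eq_bot_iff_forall _).mpr fun A hA => ?_
    obtain ⟨r, hr, hA'⟩ := Matrix.SpecialLinearGroup.mem_center_iff.mp hA
    rw [Fintype.card_fin] at hr
    have : r = 1 := by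
      have h : (r - 1) * (r - 1) = 0 := by linear_combination hr + (1 - r) * h2
      exact sub_eq_zero.mp (mul_self_eq_zero.mp h)
    exact Subtype.ext (by rw [← hA', this]; simp)
  exact ⟨(C'.equivMapOfInjective N.subtype N.subtype_injective).symm.trans
    ((hC'.symm.QuotientMulEquiv).symm.trans
      ((QuotientGroup.quotientMulEquivOfEq hfk.symm).trans
        ((QuotientGroup.quotientKerEquivOfSurjective f hfs).trans
          ((MulEquiv.ofBijective j hj).symm.trans
            ((QuotientGroup.quotientBot).symm.trans (QuotientGroup.quotientMulEquivOfEq hcen2.symm))))))⟩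

end CfsgLib.LFourElemCover
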